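import Mathlib
import Cfsg.Agent.Lib.SSCls.Basic

/-!
The dual of a polynomial and the class data of isometries.
-/

set_option autoImplicit false

namespace H64.Wall

open Polynomial Module H65 H66 H64.CN Finset

variable {F : Type*} [Field F] {σ : F →+* F}

variable (σ) in
/-- The monic polynomial whose roots are the inverses of the conjugated roots. -/
noncomputable def du : F[X] →* F[X] where
  toFun p := C (σ (p.coeff 0))⁻¹ * (p.map σ).reverse
  map_one' := by rw [Polynomial.map_one, ← C_1, reverse_C]; simp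
  map_mul' p q := by
    rw [mul_coeff_zero, map_mul, mul_inv, C_mul, Polynomial.map_mul, reverse_mul_of_domain]; ring

theorem du_apply (p : F[X]) : du σ p = C (σ (p.coeff 0))⁻¹ * (p.map σ).reverse := rfl

theorem du_coeff (p : F[X]) (i : ℕ) :
    (du σ p).coeff i = (σ (p.coeff 0))⁻¹ * σ (p.coeff (revAt p.natDegree i)) := by
  rw [du_apply, coeff_C_mul, coeff_reverse, natDegree_map, coeff_map]

theorem du_natDegree {p : F[X]} (h0 : p.coeff 0 ≠ 0) : (du σ p).natDegree = p.natDegree := by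
  rw [du_apply, natDegree_C_mul (by simpa using h0), reverse_natDegree, natDegree_map,
    natTrailingDegree_eq_zero.2 (Or.inr (by simpa using h0)), Nat.sub_zero]

theorem du_monic {p : F[X]} (h0 : p.coeff 0 ≠ 0) : (du σ p).Monic := by
  rw [Monic, leadingCoeff, du_natDegree h0, du_coeff, revAt_le le_rfl, Nat.sub_self,
    inv_mul_cancel₀ (by simpa using h0)]

theorem du_coeff_zero {p : F[X]} (hm : p.Monic) : (du σ p).coeff 0 = (σ (p.coeff 0))⁻¹ := by
  rw [du_coeff, revAt_zero, hm.coeff_natDegree, map_one, mul_one]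

theorem du_ne {p : F[X]} (hm : p.Monic) (h0 : p.coeff 0 ≠ 0) : (du σ p).coeff 0 ≠ 0 := by
  rw [du_coeff_zero hm]; simpa using h0

theorem du_du (hσ : ∀ x, σ (σ x) = x) {p : F[X]} (hm : p.Monic) (h0 : p.coeff 0 ≠ 0) :
    du σ (du σ p) = p := by
  ext i
  rw [du_coeff, du_coeff_zero hm, du_coeff, du_natDegree h0, revAt_invol, map_mul, map_inv₀, hσ, hσ,
    inv_inv, mul_inv_cancel_left₀ h0]

theorem du_irreducible (hσ : ∀ x, σ (σ x) = x) {p : F[X]} (hi : Irreducible p) (hm : p.Monic)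
    (h0 : p.coeff 0 ≠ 0) : Irreducible (du σ p) := by
  refine (du_monic h0).irreducible_iff_natDegree.2 ⟨fun h => ?_, fun f g hf hg h => ?_⟩
  · have := du_natDegree (σ := σ) h0
    rw [h, natDegree_one] at this
    exact hi.natDegree_pos.ne this
  · have h1 := du_ne (σ := σ) hm h0
    rw [← h, mul_coeff_zero, mul_ne_zero_iff] at h1
    have := (hm.irreducible_iff_natDegree.1 hi).2 _ _ (du_monic (σ := σ) h1.1) (du_monic h1.2)
      (by rw [← map_mul, h, du_du hσ hm h0])
    rwa [du_natDegree h1.1, du_natDegree h1.2] at this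

variable {V W : Type*} [AddCommGroup V] [Module F V] [AddCommGroup W] [Module F W]

theorem has_model {ι : Type*} [Fintype ι] {p : ι → F[X]} {e : ι → ℕ} (hp : ∀ i, Irreducible (p i))
    (hm : ∀ i, (p i).Monic) (he : ∀ i, 0 < e i) :
    Has (model fun i => p i ^ e i) fun k => ∏ i with e i = k, p i := by
  let φ := (Fintype.equivFin ι).symm
  exact ⟨_, p ∘ φ, e ∘ φ, fun _ => hp _, fun _ => hm _, fun _ => he _,
    similar_model_reindex _ _ φ fun _ => Associated.refl _,
    fun k => (prod_equiv φ (by simp) (by simp)).symm⟩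

theorem has_dual (hσ : ∀ x, σ (σ x) = x) [FiniteDimensional F V] [FiniteDimensional F W]
    {f : End F V} {g : End F W} (hf : IsUnit f) (hg : IsUnit g)
    (h : ∀ p : F[X], p.coeff 0 ≠ 0 → kerDim g (du σ p) = kerDim f p) {u : ℕ → F[X]} (hu : Has f u) :
    Has g fun k => du σ (u k) := by
  classical
  have h1 := (hu.isD ((LinearMap.isUnit_iff_isUnit_det f).1 hf).ne_zero).ne
  obtain ⟨t, p, e, hp, hm, he, hs, hu⟩ := hu
  have h0 : ∀ i, (p i).coeff 0 ≠ 0 := fun i h2 => h1 (e i) (by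
    rw [hu, ← X_dvd_iff]
    exact (X_dvd_iff.2 h2).trans (dvd_prod_of_mem _ (by simp)))
  have hp' := fun i => du_irreducible hσ (hp i) (hm i) (h0 i)
  have hm' := fun i => du_monic (σ := σ) (h0 i)
  refine ⟨t, fun i => du σ (p i), e, hp', hm', he, ?_, fun k => by simp only [hu, map_prod]⟩
  have := finiteDimensional_model (fun i => du σ (p i) ^ e i) fun i => pow_ne_zero _ (hp' i).ne_zero
  refine similar_of_kerDim_irred_pow fun ρ k hρ hρm => ?_
  rw [kerDim_model_irred_pow _ e hp' hm' hρ hρm]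
  by_cases h2 : ρ.coeff 0 = 0
  · rw [filter_false_of_mem fun i _ h3 => du_ne (hm i) (h0 i) (h3 ▸ h2), sum_empty, zero_mul,
      ← eq_of_monic_of_associated monic_X hρm (irreducible_X.associated_of_dvd hρ (X_dvd_iff.2 h2)),
      kerDim_X_pow, (LinearMap.isUnit_iff_ker_eq_bot _).1 (hg.pow k), finrank_bot]
  · rw [← du_du hσ hρm h2, ← map_pow, h _ (by
      rw [coeff_zero_eq_eval_zero, eval_pow, ← coeff_zero_eq_eval_zero]
      exact pow_ne_zero _ (du_ne hρm h2)), hs.kerDim_eq, kerDim_model_irred_pow _ e hp hm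
      (du_irreducible hσ hρ hρm h2) (du_monic h2), du_du hσ hρm h2, du_natDegree h2]
    congr 2
    ext i
    simp only [mem_filter, mem_univ, true_and]
    exact ⟨fun h3 => by rw [h3, du_du hσ hρm h2], fun h3 => by rw [← h3, du_du hσ (hm i) (h0 i)]⟩

variable {n : Type*} [Fintype n] [DecidableEq n]

theorem has_cstar_inv [Finite F] (hσ : ∀ x, σ (σ x) = x) {A B : Matrix n n F}
    (h : cstar σ A * B = 1) {u : ℕ → F[X]} (hu : Has (Matrix.toLin' A) u) :
    Has (Matrix.toLin' B) fun k => du σ (u k) := by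
  have hB : IsUnit B := IsUnit.of_mul_eq_one_right _ h
  have hA : IsUnit A := cstar_cstar hσ A ▸ isUnit_cstar σ (IsUnit.of_mul_eq_one _ h)
  refine has_dual hσ (f := Matrix.toLin' A) (g := Matrix.toLin' B) (hA.map (Matrix.toLinAlgEquiv' (R := F) (n := n)))
    (hB.map (Matrix.toLinAlgEquiv' (R := F) (n := n))) (fun p hp => ?_) hu
  have h1 := rank_add_kerDim A p
  have h2 := rank_add_kerDim B (du σ p)
  rw [du_apply, map_mul, aeval_C, H72.Cls.aeval_reverse h, ← cstar_aeval,
    Matrix.rank_mul_eq_right_of_isUnit_det, Matrix.rank_mul_eq_left_of_isUnit_det, rank_cstar hσ,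
    ← du_apply] at h2
  · omega
  · exact (Matrix.isUnit_iff_isUnit_det _).1 (hB.pow _)
  · exact (Matrix.isUnit_iff_isUnit_det _).1 ((Ne.isUnit (by simpa using hp)).map _)

theorem du_eq_of_pres [Finite F] (hσ : ∀ x, σ (σ x) = x) {A P : Matrix n n F} (hP : IsUnit P)
    (h : cstar σ A * P * A = P) {u : ℕ → F[X]} (hu : Has (Matrix.toLin' A) u) (k : ℕ) :
    du σ (u k) = u k := by
  obtain ⟨P, rfl⟩ := hP
  have h1 := has_cstar_inv hσ (A := A) (B := P * A * P⁻¹) (by
    rw [← mul_assoc, ← mul_assoc, h, Units.mul_inv]) hu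
  exact congrFun ((h1.of_similar ((isConj_iff_similar _ _).1 ⟨P, by simp [SemiconjBy]⟩)).unique
    hu) k

theorem exists_unitary_of_du [Finite F] (hσ : ∀ x, σ (σ x) = x) (hne : ∃ a, σ a ≠ a)
    [FiniteDimensional F V] {f : End F V} (hf : IsUnit f) {u : ℕ → F[X]} (hu : Has f u)
    (h : ∀ k, du σ (u k) = u k) : ∃ U : Matrix (Fin (finrank F V)) (Fin (finrank F V)) F,
      cstar σ U * U = 1 ∧ Similar f (Matrix.toLin' U) := by
  obtain ⟨A, hA⟩ := exists_matrix_similar f (n := Fin (finrank F V)) (by simp)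
  have h1 := (MulEquiv.isUnit_map (Matrix.toLinAlgEquiv' (R := F) (n := Fin (finrank F V)))).1
    (hA.isUnit_iff.1 hf)
  obtain ⟨B, hB⟩ := (isUnit_cstar σ h1).exists_right_inv
  have h2 := has_cstar_inv hσ hB (hu.of_similar hA.symm)
  simp only [h] at h2
  obtain ⟨P, hP⟩ := (isConj_iff_similar _ _).2 ((hu.of_similar hA.symm).similar h2)
  obtain ⟨U, a1, a2⟩ := exists_unitary_similar hσ hne (A := A) P.isUnit (by
    rw [mul_assoc, hP.eq, ← mul_assoc, hB, one_mul])
  exact ⟨U, a1, hA.trans a2⟩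

theorem unitary_of_normal (hσ : ∀ x, σ (σ x) = x) {U Z : Matrix n n F} (hZ : IsUnit Z)
    (h1 : Commute U Z) (h3 : Commute U (cstar σ Z)) (h4 : Commute Z (cstar σ Z)) :
    ∃ v : Matrix n n F, cstar σ v * v = 1 ∧ Commute U v ∧ v.det * σ Z.det = Z.det := by
  obtain ⟨W, hW⟩ := hZ.exists_left_inv
  have hW' : Z * W = 1 := mul_eq_one_comm.1 hW
  have h5 : cstar σ Z * cstar σ W = 1 := by rw [← cstar_mul, hW, cstar_one]
  have h6 : cstar σ W * cstar σ Z = 1 := mul_eq_one_comm.1 h5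
  refine ⟨Z * cstar σ W, ?_, h1.mul_right ?_, ?_⟩
  · rw [cstar_mul, cstar_cstar hσ, mul_assoc, ← mul_assoc (cstar σ Z), ← h4.eq, mul_assoc, h5,
      mul_one, hW]
  · calc U * cstar σ W = cstar σ W * (cstar σ Z * U) * cstar σ W := by
          rw [← mul_assoc, h6, one_mul]
      _ = _ := by rw [← h3.eq, mul_assoc, mul_assoc, h5, mul_one]
  · rw [← det_cstar, ← Matrix.det_mul, mul_assoc, h6, mul_one]

open Matrix in
theorem unitary_of_blocks [Finite F] (hσ : ∀ x, σ (σ x) = x) (hne : ∃ a, σ a ≠ a) {k l : ℕ}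
    {U : Matrix n n F} {U1 v : Matrix (Fin k) (Fin k) F} {U2 : Matrix (Fin l) (Fin l) F}
    (hU : cstar σ U * U = 1) (u1 : cstar σ U1 * U1 = 1) (u2 : cstar σ U2 * U2 = 1)
    (hs : Similar (toLin' U) ((toLin' U1).prodMap (toLin' U2) : End F ((Fin k → F) × (Fin l → F))))
    (v1 : cstar σ v * v = 1) (v2 : Commute U1 v) :
    ∃ u : Matrix n n F, cstar σ u * u = 1 ∧ Commute U u ∧ u.det = v.det := by
  have h5 := hs.finrank_eq
  simp only [finrank_fintype_fun_eq_card, finrank_prod, Fintype.card_fin] at h5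
  let φ := reindexAlgEquiv F F (Fintype.equivOfCardEq (α := Fin k ⊕ Fin l) (β := n) (by simp [h5]))
  have hφ : ∀ (A : Matrix (Fin k) (Fin k) F) (B : Matrix (Fin l) (Fin l) F), cstar σ A * A = 1 →
      cstar σ B * B = 1 → cstar σ (φ (fromBlocks A 0 0 B)) * φ (fromBlocks A 0 0 B) = 1 := by
    intro A B hA hB
    have : cstar σ (φ (fromBlocks A 0 0 B)) = φ (fromBlocks (cstar σ A) 0 0 (cstar σ B)) := by
      change φ (cstar σ (fromBlocks A 0 0 B)) = _
      congr 1
      ext (i | i) (j | j) <;> simp [cstar_apply]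
    rw [this, ← map_mul, fromBlocks_multiply]
    simp [hA, hB]
  obtain ⟨P, hP⟩ : IsConj U (φ (fromBlocks U1 0 0 U2)) := (isConj_iff_similar _ _).2 (hs.trans
    (H65.Similar.trans ⟨(LinearEquiv.sumArrowLequivProdArrow _ _ F F).symm, fun x => by
      ext (i | i) <;> simp [fromBlocks_mulVec, Function.comp_def] <;> rfl⟩ (similar_reindex _ _)))
  obtain ⟨c, c1, c2⟩ := exists_unitary_conj_matrix hσ hne U _ hU (hφ _ _ u1 u2) P P.isUnit hP.eq
  have c3 : c * cstar σ c = 1 := mul_eq_one_comm.1 c1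
  have v4 : Commute (φ (fromBlocks U1 0 0 U2)) (φ (fromBlocks v 0 0 1)) := by
    refine Commute.map ?_ φ
    change _ * _ = _ * _
    simp [fromBlocks_multiply, v2.eq]
  have v5 := hφ v 1 v1 (by simp [cstar_one])
  have v6 : (φ (fromBlocks v 0 0 1)).det = v.det := by
    refine (det_reindex_self _ _).trans ?_
    simp
  generalize φ (fromBlocks v 0 0 1) = w at v4 v5 v6
  generalize φ (fromBlocks U1 0 0 U2) = Y at c2 v4
  have c4 : U * cstar σ c = cstar σ c * Y := by
    calc U * cstar σ c = cstar σ c * (c * U) * cstar σ c := by rw [← mul_assoc, c1, one_mul]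
      _ = _ := by rw [c2, mul_assoc, mul_assoc, c3, mul_one]
  refine ⟨cstar σ c * w * c, ?_, ?_, ?_⟩
  · rw [cstar_mul, cstar_mul, cstar_cstar hσ]
    calc _ = cstar σ c * (cstar σ w * (c * cstar σ c) * w) * c := by simp only [mul_assoc]
      _ = 1 := by rw [c3, mul_one, v5, mul_one, c1]
  · change _ * _ = _ * _
    rw [← mul_assoc, ← mul_assoc, c4, mul_assoc _ Y, v4.eq, mul_assoc _ c, c2]
    simp only [mul_assoc]
  · rw [det_mul, det_mul, mul_right_comm, ← det_mul, c1, v6, det_one, one_mul]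

theorem exists_unitary_det [Finite F] (hσ : ∀ x, σ (σ x) = x) (hne : ∃ a, σ a ≠ a)
    {U : Matrix n n F} (hU : cstar σ U * U = 1) {u : ℕ → F[X]} (hu : Has (Matrix.toLin' U) u)
    {k : ℕ} (hk : 0 < (u k).natDegree) {a : F} (ha : a * σ a = 1) :
    ∃ w : Matrix n n F, cstar σ w * w = 1 ∧ Commute U w ∧ w.det = a ^ k := by
  classical
  obtain ⟨b, hb, hab⟩ : ∃ b, IsUnit b ∧ a * σ b = b := by
    obtain ⟨a0, ha0⟩ := hne
    exact exists_hilbert90_of_comm σ hσ a0 (sub_ne_zero.2 ha0.symm).isUnit a ha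
  have hd := du_eq_of_pres hσ isUnit_one (by rw [mul_one, hU]) hu
  have hUu : IsUnit (Matrix.toLin' U) :=
    (IsUnit.of_mul_eq_one_right _ hU).map (Matrix.toLinAlgEquiv' (R := F) (n := n))
  have h1 := (hu.isD ((LinearMap.isUnit_iff_isUnit_det _).1 hUu).ne_zero).ne
  obtain ⟨t, p, e, hp, hm, he, hs, hu⟩ := hu
  have h0 : ∀ i, (p i).coeff 0 ≠ 0 := fun i h2 => h1 (e i) (by
    rw [hu, ← X_dvd_iff]
    exact (X_dvd_iff.2 h2).trans (dvd_prod_of_mem _ (by simp)))
  obtain ⟨i, rfl⟩ : ∃ i, e i = k := by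
    by_contra hn
    rw [hu, filter_false_of_mem fun i _ hi => hn ⟨i, hi⟩] at hk
    simp at hk
  obtain ⟨j, hj, hj', hij⟩ : ∃ j, e j = e i ∧ p j = du σ (p i) ∧ (p j = p i → j = i) := by
    by_cases h : du σ (p i) = p i
    · exact ⟨i, rfl, h.symm, fun _ => rfl⟩
    · have h2 : du σ (p i) ∣ ∏ l with e l = e i, p l := by
        rw [← hu, ← hd, hu, map_prod]
        exact dvd_prod_of_mem (fun l => du σ (p l)) (by simp)
      have h3 := du_irreducible hσ (hp i) (hm i) (h0 i)
      obtain ⟨j, a1, a2⟩ := (h3.prime.dvd_finsetProd_iff _).1 h2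
      have h4 := eq_of_monic_of_associated (du_monic (h0 i)) (hm j) (h3.associated_of_dvd (hp j) a2)
      exact ⟨j, (mem_filter.1 a1).2, h4.symm, fun h5 => absurd (h4.trans h5) h⟩
  let S : Fin t → Prop := fun l => l = i ∨ l = j
  have a1 := has_model (p := fun l : {l // S l} => p l) (e := fun l => e l) (fun _ => hp _)
    (fun _ => hm _) fun _ => he _
  have a2 := has_model (p := fun l : {l // ¬ S l} => p l) (e := fun l => e l) (fun _ => hp _)
    (fun _ => hm _) fun _ => he _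
  have a3 : Similar (Matrix.toLin' U) ((model fun l : {l // S l} => p l ^ e l).prodMap
      (model fun l : {l // ¬ S l} => p l ^ e l)) :=
    hs.trans ⟨{ Equiv.piEquivPiSubtypeProd S _ with
      map_add' := fun _ _ => rfl, map_smul' := fun _ _ => rfl }, fun _ => rfl⟩
  have a4 : ∀ k, du σ (∏ l : {l // S l} with e l.1 = k, p l.1) = ∏ l : {l // S l} with e l.1 = k, p l.1 := by
    intro k
    rw [map_prod]
    refine prod_equiv (Equiv.swap ⟨i, Or.inl rfl⟩ ⟨j, Or.inr rfl⟩) ?_ ?_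
    · rintro ⟨l, rfl | rfl⟩ <;> simp [hj]
    · rintro ⟨l, rfl | rfl⟩ -
      · simp [hj']
      · simp only [Equiv.swap_apply_right]
        rw [hj', du_du hσ (hm i) (h0 i)]
  have a5 : ∀ k, u k = (∏ l : {l // S l} with e l.1 = k, p l.1) *
      ∏ l : {l // ¬ S l} with e l.1 = k, p l.1 := fun k => by
    rw [hu, prod_filter, prod_filter, prod_filter,
      Fintype.prod_subtype_mul_prod_subtype S fun l => if e l = k then p l else 1]
  have a6 : ∀ k, du σ (∏ l : {l // ¬ S l} with e l.1 = k, p l.1) =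
      ∏ l : {l // ¬ S l} with e l.1 = k, p l.1 := fun k =>
    mul_left_cancel₀ (a1.monic k).ne_zero (by rw [← a5, ← hd k, a5, map_mul, a4])
  have := finiteDimensional_model (fun l : {l // S l} => p l ^ e l)
    fun i => pow_ne_zero _ (hp i).ne_zero
  have := finiteDimensional_model (fun l : {l // ¬ S l} => p l ^ e l)
    fun i => pow_ne_zero _ (hp i).ne_zero
  have a7 := ((LinearMap.isUnit_iff_isUnit_det _).1 (a3.isUnit_iff.1 hUu)).ne_zero
  rw [LinearMap.det_prodMap, mul_ne_zero_iff] at a7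
  obtain ⟨U1, b1, b2⟩ := exists_unitary_of_du hσ hne
    ((LinearMap.isUnit_iff_isUnit_det _).2 a7.1.isUnit) a1 a4
  obtain ⟨U2, b3, b4⟩ := exists_unitary_of_du hσ hne
    ((LinearMap.isUnit_iff_isUnit_det _).2 a7.2.isUnit) a2 a6
  obtain ⟨r, hr⟩ := exists_norm_eq_pow (hp i) (hm i) (e i) b
  obtain ⟨g, rfl⟩ := AdjoinRoot.mk_surjective r
  obtain ⟨T, c1, c2⟩ := exists_idem_poly p e hp hm i
  have c3 : (aeval U1 (1 + T * (g - 1))).det = b ^ e i := by
    have := fun l => ((hm l).pow (e l)).finite_adjoinRoot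
    rw [← LinearMap.det_toLin', ← aeval_toLin', ← (b2.aeval _).det_eq, model, aeval_piEnd, det_piEnd,
      prod_eq_single ⟨i, Or.inl rfl⟩ _ (by simp), ← hr, Algebra.norm_apply]
    · congr 1
      refine LinearMap.ext fun x => (aeval_cyc_apply _ _ _).trans ?_
      congr 1
      rw [AdjoinRoot.mk_eq_mk, show 1 + T * (g - 1) - g = (T - 1) * (g - 1) by ring]
      exact (c1 i rfl).mul_right _
    · rintro ⟨l, rfl | rfl⟩ - hl
      · exact absurd rfl hl
      · refine (congrArg _ ?_).trans (map_one LinearMap.det)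
        refine LinearMap.ext fun x => (aeval_cyc_apply _ _ _).trans ?_
        rw [map_add, map_one, AdjoinRoot.mk_eq_zero.2 ((c2 l fun h => hl
          (Subtype.ext (hij h))).mul_right _), add_zero, one_mul]
        rfl
  have c4 : Commute U1 (cstar σ U1) := (mul_eq_one_comm.1 b1).trans b1.symm
  obtain ⟨v, v1, v2, v3⟩ := unitary_of_normal hσ (U := U1) (Z := aeval U1 (1 + T * (g - 1)))
    ((Matrix.isUnit_iff_isUnit_det _).2 (c3 ▸ hb.pow _)) (commute_aeval (Commute.refl _) _)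
    (by rw [cstar_aeval]; exact commute_aeval c4 _)
    (by rw [cstar_aeval]; exact commute_aeval (commute_aeval c4.symm _).symm _)
  obtain ⟨w, w1, w2, w3⟩ := unitary_of_blocks hσ hne hU b1 b3 (a3.trans (by
    obtain ⟨e1, h1⟩ := b2
    obtain ⟨e2, h2⟩ := b4
    exact ⟨e1.prodCongr e2, fun x => Prod.ext (h1 _) (h2 _)⟩)) v1 v2
  refine ⟨w, w1, w2, w3.trans (mul_right_cancel₀ (b := σ b ^ e i) 
    (pow_ne_zero _ (by simpa using hb.ne_zero)) ?_)⟩
  rw [← mul_pow, hab, ← c3, ← v3, c3, map_pow]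

end H64.Wall
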